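import Groth.Agent.FlatStage.Smooth
import Groth.Agent.FlatStage.Given
import Groth.Agent.SectSmoothLib.Scheme

/-!
# Differential smoothness is reached at a stage of a cofiltered limit
-/

set_option autoImplicit false
set_option backward.isDefEq.respectTransparency false
set_option linter.style.haveILetI false
set_option linter.unusedSectionVars false

universe u

open CategoryTheory CategoryTheory.Limits AlgebraicGeometry TopologicalSpace
open Groth.Agent

noncomputable section

namespace Groth.Agent.DiagSmoothLib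

variable {X Y S T : Scheme.{u}} {f : X ⟶ S} {fY : Y ⟶ T} {q : Y ⟶ X} {e : T ⟶ S}
  (h : IsPullback q fY f e)

/-- The map of self fibre products. -/
def sqMap : pullback fY fY ⟶ pullback f f :=
  pullback.lift (pullback.fst fY fY ≫ q) (pullback.snd fY fY ≫ q)
    (by simp only [Category.assoc, h.w]; rw [pullback.condition_assoc])

theorem isPullback_sqMap : IsPullback (sqMap h) (pullback.snd fY fY) (pullback.snd f f) q := by
  refine IsPullback.of_right ?_ (pullback.lift_snd _ _ _) (IsPullback.of_hasPullback f f)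
  have h1 := (IsPullback.of_hasPullback fY fY).paste_horiz h
  rw [show sqMap h ≫ pullback.fst f f = pullback.fst fY fY ≫ q from pullback.lift_fst _ _ _, h.w]
  exact h1

theorem diagonal_sqMap : pullback.diagonal fY ≫ sqMap h = q ≫ pullback.diagonal f := by
  apply pullback.hom_ext <;> simp [sqMap]

include h in
/-- Smoothness of the projection along the diagonal is stable under base change. -/
theorem nhd_diagonal (y : Y)
    (hy : ∃ U : (pullback f f).Opens, pullback.diagonal f (q y) ∈ U ∧ Smooth (U.ι ≫ pullback.snd f f)) :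
    ∃ U : (pullback fY fY).Opens, pullback.diagonal fY y ∈ U ∧ Smooth (U.ι ≫ pullback.snd fY fY) := by
  refine FlatLocus.exists_nhd_of_isPullback (isPullback_sqMap h) _ ?_
  rwa [← Scheme.Hom.comp_apply, diagonal_sqMap, Scheme.Hom.comp_apply]

/-- Two base changes of the same morphism have the same smooth points. -/
theorem nhd_transfer {P₀ B₀ A A' B Z : Scheme.{u}} {p₀ : P₀ ⟶ B₀} {b : B ⟶ B₀} {a : A ⟶ P₀} {p : A ⟶ B}
    {a' : A' ⟶ P₀} {p' : A' ⟶ B} (h1 : IsPullback a p p₀ b) (h2 : IsPullback a' p' p₀ b)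
    (r : Z ⟶ A) (r' : Z ⟶ A') (e1 : r ≫ a = r' ≫ a') (e2 : r ≫ p = r' ≫ p') (z : Z)
    (hz : ∃ U : A.Opens, r z ∈ U ∧ Smooth (U.ι ≫ p)) :
    ∃ U : A'.Opens, r' z ∈ U ∧ Smooth (U.ι ≫ p') := by
  have sq : IsPullback (h1.lift a' p' h2.w) p' p (𝟙 B) :=
    IsPullback.of_right (by rw [h1.lift_fst, Category.id_comp]; exact h2)
      (by rw [h1.lift_snd, Category.comp_id]) h1
  have hr : r' ≫ h1.lift a' p' h2.w = r := by
    apply h1.hom_ext
    · rw [Category.assoc, h1.lift_fst, e1]
    · rw [Category.assoc, h1.lift_snd, e2]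
  exact FlatLocus.exists_nhd_of_isPullback sq (r' z) (by rwa [← Scheme.Hom.comp_apply, hr])

theorem nhd_iff_mem_smoothLocus {A B : Scheme.{u}} (p : A ⟶ B) [LocallyOfFinitePresentation p] (z : A) :
    (∃ U : A.Opens, z ∈ U ∧ Smooth (U.ι ≫ p)) ↔ z ∈ p.smoothLocus :=
  FlatLocus.exists_smooth_nhd_iff p z

/-- Differential smoothness in terms of the smooth locus of a projection. -/
theorem quasi_diagonal_iff {A B : Scheme.{u}} (p : A ⟶ B) [LocallyOfFinitePresentation p] :
    RegImm.IsRegularImmersion RegImm.Kind.quasi (pullback.diagonal p) ↔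
      ∀ z : A, ∃ U : (pullback p p).Opens, pullback.diagonal p z ∈ U ∧ Smooth (U.ι ≫ pullback.snd p p) := by
  have hu : pullback.diagonal p ≫ pullback.snd p p = 𝟙 A := pullback.diagonal_snd p
  simp only [nhd_iff_mem_smoothLocus]
  refine ⟨fun hq z => SectSmoothLib.mem_smoothLocus_of_quasi (pullback.snd p p) _ hu z (hq.2 z),
    fun hz => ⟨inferInstance, fun z => ?_⟩⟩
  obtain ⟨V, hzV, hV⟩ := SectSmoothLib.exists_quasi_of_mem_smoothLocus (pullback.snd p p) _ hu z (hz z)
  exact SectSmoothLib.isRegularImmersionAt_of_restrict (pullback.snd p p) _ hu V z hzV (hV.2 ⟨z, hzV⟩)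

variable {I : Type u} [SmallCategory I] [IsCofiltered I] (D : I ⥤ Scheme.{u}) (c : Cone D)
  [∀ {i j} (φ : i ⟶ j), IsAffineHom (D.map φ)] (i₀ : I) {X₀ : Scheme.{u}} (f₀ : X₀ ⟶ D.obj i₀)

theorem isPullback_map {l k : Over i₀} (a : l ⟶ k) :
    IsPullback ((AffLim.baseChange D i₀ f₀).map a) (pullback.snd f₀ (D.map l.hom))
      (pullback.snd f₀ (D.map k.hom)) (D.map a.left) := by
  refine IsPullback.of_right (v₁₃ := f₀) (h₁₂ := pullback.fst f₀ (D.map k.hom))
    (h₂₂ := D.map k.hom) ?_ ?_ (IsPullback.of_hasPullback _ _)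
  · rw [FlatStage.fst_map, ← D.map_comp, Over.w]
    exact IsPullback.of_hasPullback _ _
  · simp [pullback.map]

variable {X' : Scheme.{u}} {f' : X' ⟶ c.pt} {qX : X' ⟶ X₀} (hX : IsPullback qX f' f₀ (c.π.app i₀))

include hX in
/-- A point where the base change is differentially smooth has this property at a stage. -/
theorem exists_stage_point (hc : IsLimit c) [LocallyOfFinitePresentation f₀] (x : X')
    (hx : ∃ U : (pullback f' f').Opens, pullback.diagonal f' x ∈ U ∧ Smooth (U.ι ≫ pullback.snd f' f')) :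
    ∃ k : Over i₀, ∃ U : (pullback (pullback.snd f₀ (D.map k.hom)) (pullback.snd f₀ (D.map k.hom))).Opens,
      pullback.diagonal (pullback.snd f₀ (D.map k.hom)) (FlatStage.vMap D c i₀ f₀ hX k x) ∈ U ∧
        Smooth (U.ι ≫ pullback.snd (pullback.snd f₀ (D.map k.hom)) (pullback.snd f₀ (D.map k.hom))) := by
  haveI : LocallyOfFinitePresentation (pullback.snd f₀ f₀) := inferInstance
  obtain ⟨k, -, hk⟩ := FlatStage.exists_smoothAt D c i₀ (pullback.snd f₀ f₀) f₀ hX (isPullback_sqMap hX) hc
    (pullback.diagonal f' x) (Over.mk (𝟙 i₀)) hx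
  refine ⟨k, ?_⟩
  have hpk : IsPullback (pullback.fst f₀ (D.map k.hom)) (pullback.snd f₀ (D.map k.hom)) f₀ (D.map k.hom) :=
    IsPullback.of_hasPullback _ _
  refine nhd_transfer (AffLim.isPullback_baseChangeMap D i₀ (pullback.snd f₀ f₀) f₀ k) (isPullback_sqMap hpk)
    (pullback.diagonal f' ≫ FlatStage.vMap D c i₀ (pullback.snd f₀ f₀ ≫ f₀) ((isPullback_sqMap hX).paste_vert hX) k)
    (FlatStage.vMap D c i₀ f₀ hX k ≫ pullback.diagonal (pullback.snd f₀ (D.map k.hom))) ?_ ?_ x ?_
  · rw [Category.assoc, Category.assoc, FlatStage.vMap_fst, diagonal_sqMap, diagonal_sqMap, FlatStage.vMap_fst_assoc]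
  · rw [Category.assoc, FlatStage.xMap_comp D c i₀ f₀ hX (pullback.snd f₀ f₀) (isPullback_sqMap hX) k, pullback.diagonal_snd_assoc, Category.assoc, pullback.diagonal_snd]
    exact (Category.comp_id _).symm
  · rwa [Scheme.Hom.comp_apply]

include hX in
/-- Differential smoothness of a quasi-compact family is reached at a stage. -/
theorem exists_stage (hc : IsLimit c) [LocallyOfFinitePresentation f₀] [CompactSpace X₀]
    (hq : RegImm.IsRegularImmersion RegImm.Kind.quasi (pullback.diagonal f')) :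
    ∃ k : Over i₀, RegImm.IsRegularImmersion RegImm.Kind.quasi (pullback.diagonal (pullback.snd f₀ (D.map k.hom))) := by
  haveI : LocallyOfFinitePresentation f' := MorphismProperty.of_isPullback hX inferInstance
  haveI : ∀ k : Over i₀, LocallyOfFinitePresentation (pullback.snd f₀ (D.map k.hom)) := fun k =>
    MorphismProperty.pullback_snd _ _ inferInstance
  let Q : ∀ k : Over i₀, (AffLim.baseChange D i₀ f₀).obj k → Prop := fun k z =>
    ∃ U : (pullback (pullback.snd f₀ (D.map k.hom)) (pullback.snd f₀ (D.map k.hom))).Opens,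
      pullback.diagonal (pullback.snd f₀ (D.map k.hom)) z ∈ U ∧
        Smooth (U.ι ≫ pullback.snd (pullback.snd f₀ (D.map k.hom)) (pullback.snd f₀ (D.map k.hom)))
  have hopen : ∀ k, IsOpen {z | Q k z} := fun k => by
    have : {z | Q k z} = pullback.diagonal (pullback.snd f₀ (D.map k.hom)) ⁻¹'
        ((pullback.snd (pullback.snd f₀ (D.map k.hom)) (pullback.snd f₀ (D.map k.hom))).smoothLocus :
          Set _) := Set.ext fun z => nhd_iff_mem_smoothLocus _ _
    rw [this]
    exact (Scheme.Hom.smoothLocus _).2.preimage (pullback.diagonal (pullback.snd f₀ (D.map k.hom))).continuous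
  have hmono : ∀ {l k : Over i₀} (a : l ⟶ k) z, Q k ((AffLim.baseChange D i₀ f₀).map a z) → Q l z :=
    fun {l k} a z hz => nhd_diagonal (isPullback_map D i₀ f₀ a) z hz
  obtain ⟨hcX⟩ := FlatStage.nonempty_isLimit_vCone D c i₀ f₀ hX hc
  let o : Over i₀ := Over.mk (𝟙 i₀)
  haveI : CompactSpace ((AffLim.baseChange D i₀ f₀).obj o) :=
    QuasiCompact.compactSpace_of_compactSpace (pullback.fst f₀ (D.map o.hom))
  obtain ⟨j, hj⟩ := PullbackMod.exists_all_of_open (AffLim.baseChange D i₀ f₀)
    (FlatStage.vCone D c i₀ f₀ hX) hcX o (fun j z => Q j.left z) (fun j => hopen j.left)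
    (fun {j k} a z hz => hmono a.left z hz)
    (fun x => by
      obtain ⟨k, hk⟩ := exists_stage_point D c i₀ f₀ hX hc x ((quasi_diagonal_iff f').1 hq x)
      obtain ⟨l, a, b, -⟩ := IsCofilteredOrEmpty.cone_objs k o
      refine ⟨Over.mk b, hmono a _ ?_⟩
      show Q k ((AffLim.baseChange D i₀ f₀).map a (FlatStage.vMap D c i₀ f₀ hX l x))
      rw [← Scheme.Hom.comp_apply, FlatStage.vMap_map]
      exact hk)
  exact ⟨j.left, (quasi_diagonal_iff _).2 hj⟩

include hX in
/-- Differential smoothness passes from a stage to the limit. -/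
theorem of_stage [LocallyOfFinitePresentation f₀] {j : I} {φ : j ⟶ i₀} {Xj : Scheme.{u}} {fj : Xj ⟶ D.obj j}
    {pX : Xj ⟶ X₀} (hj : IsPullback pX fj f₀ (D.map φ))
    (hq : RegImm.IsRegularImmersion RegImm.Kind.quasi (pullback.diagonal fj)) :
    RegImm.IsRegularImmersion RegImm.Kind.quasi (pullback.diagonal f') := by
  haveI : LocallyOfFinitePresentation f' := MorphismProperty.of_isPullback hX inferInstance
  haveI : LocallyOfFinitePresentation fj := MorphismProperty.of_isPullback hj inferInstance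
  let r := hj.lift qX (f' ≫ c.π.app j) (by rw [Category.assoc, c.w]; exact hX.w)
  have sq : IsPullback r f' fj (c.π.app j) :=
    IsPullback.of_right (by rw [hj.lift_fst, c.w]; exact hX) (hj.lift_snd _ _ _) hj
  exact (quasi_diagonal_iff f').2 fun x => nhd_diagonal sq x ((quasi_diagonal_iff fj).1 hq (r x))

end Groth.Agent.DiagSmoothLib
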